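import Groth.Agent.Lib.TopFTCpl12.Gen
import Groth.Agent.Lib.FormalModH7.CplExact

/-!
# Exactness of completions from the Artin-Rees property
-/

set_option autoImplicit false
set_option linter.style.haveILetI false
set_option backward.isDefEq.respectTransparency false
set_option backward.isDefEq.respectTransparency.types false
universe u

open CategoryTheory CategoryTheory.Limits AlgebraicGeometry Opposite TopologicalSpace

namespace Groth.Agent.TopFTCpl12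

open FormalModH7

variable {X : Scheme.{u}} {𝓘 : X.IdealSheafData} (h : (FSch.completionAlong X 𝓘).IsFormal)
  {F G : X.Modules} [Coh.IsQCoh F] [Coh.IsQCoh G]

/-- The Artin-Rees property of a map over an open. -/
def ARAt (φ : F ⟶ G) {U : X.Opens} (hU : IsAffineOpen U) (n₀ : ℕ) : Prop :=
  ∀ (p : ℕ) (s : Γ(F, U)), φ.app U s ∈ 𝓘.ideal ⟨U, hU⟩ ^ (p + n₀) • (⊤ : Submodule Γ(X, U) Γ(G, U)) →
    s ∈ 𝓘.ideal ⟨U, hU⟩ ^ p • (⊤ : Submodule Γ(X, U) Γ(F, U))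

theorem cplMap_injective' (φ : F ⟶ G) {U : X.Opens} (hU : IsAffineOpen U) {n₀ : ℕ}
    (hAR : ARAt (𝓘 := 𝓘) φ hU n₀) (x : RSec h (FSch.complMod 𝓘 F) (zO 𝓘 U))
    (hx : cplMap 𝓘 h φ (zO 𝓘 U) x = 0) : x = 0 := by
  refine piM_ext h _ _ fun n => ?_
  obtain ⟨s, hs⟩ := resC_surjective 𝓘 h F hU (n + n₀) (piM h (FSch.complMod 𝓘 F) (zO 𝓘 U) (n + n₀) x)
  have h1 : φ.app U s ∈ 𝓘.ideal ⟨U, hU⟩ ^ (n + 1 + n₀) • (⊤ : Submodule Γ(X, U) Γ(G, U)) := by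
    rw [show n + 1 + n₀ = n + n₀ + 1 by omega]
    refine (resC_eq_zero_iff 𝓘 h G hU (n + n₀) _).1 ?_
    rw [← map_resC, hs, ← piM_cplMap, hx, map_zero]
  rw [piM_lower 𝓘 h F U x s (n.le_add_right n₀) hs.symm]
  exact (resC_eq_zero_iff 𝓘 h F hU n s).2 (hAR (n + 1) s h1)

theorem cplMap_surjective' (φ : F ⟶ G) [Epi φ] {U : X.Opens} (hU : IsAffineOpen U) :
    Function.Surjective (cplMap 𝓘 h φ (zO 𝓘 U)) := by
  classical
  intro y
  have hF : Coh.IsQCoh F := ‹_›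
  have hG : Coh.IsQCoh G := ‹_›
  let φU : Γ(F, U) →ₗ[Γ(X, U)] Γ(G, U) :=
    { toFun := φ.app U
      map_add' := map_add _
      map_smul' := fun a s => Scheme.Modules.Hom.app_smul φ a s }
  have hsurj : LinearMap.range φU = ⊤ :=
    LinearMap.range_eq_top.2 (M1.app_surjective_affine_of_isQCoh hF hG φ hU)
  choose s hs using fun m => resC_surjective 𝓘 h G hU m (piM h (FSch.complMod 𝓘 G) (zO 𝓘 U) m y)
  have hd : ∀ m, ∃ d, d ∈ 𝓘.ideal ⟨U, hU⟩ ^ (m + 1) • (⊤ : Submodule Γ(X, U) Γ(F, U)) ∧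
      φU d = s (m + 1) - s m := fun m => by
    have h1 := step_level 𝓘 h G hU y m _ _ (hs m) (hs (m + 1))
    rw [← hsurj, ← Submodule.map_top, ← Submodule.map_smul''] at h1
    exact h1
  choose d hd1 hd2 using hd
  obtain ⟨t₀, ht₀⟩ : ∃ t₀, φU t₀ = s 0 := LinearMap.range_eq_top.1 hsurj (s 0)
  let t : ℕ → Γ(F, U) := fun m => t₀ + ∑ i ∈ Finset.range m, d i
  obtain ⟨x, hx⟩ := exists_of_compatible 𝓘 h F hU t fun m => by
    simp only [t, Finset.sum_range_succ]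
    rw [show ∀ a b c : Γ(F, U), a + (b + c) - (a + b) = c from fun a b c => by abel]
    exact hd1 m
  have ht : ∀ m, φU (t m) = s m := fun m => by
    induction m with
    | zero => simpa [t] using ht₀
    | succ m ih =>
      simp only [t, Finset.sum_range_succ, ← add_assoc] at ih ⊢
      rw [map_add, ih, hd2]
      abel
  refine ⟨x, RSec_ext 𝓘 h G fun n => ?_⟩
  rw [piM_cplMap, hx, map_resC, show φ.app U (t n) = s n from ht n, hs]

theorem cplMap_exact' (S : ShortComplex X.Modules) (hS : S.ShortExact) [Coh.IsQCoh S.X₁] [Coh.IsQCoh S.X₂]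
    [Coh.IsQCoh S.X₃] {U : X.Opens} (hU : IsAffineOpen U) {n₀ : ℕ} (hAR : ARAt (𝓘 := 𝓘) S.f hU n₀)
    (x : RSec h (FSch.complMod 𝓘 S.X₂) (zO 𝓘 U)) (hx : cplMap 𝓘 h S.g (zO 𝓘 U) x = 0) :
    ∃ y, cplMap 𝓘 h S.f (zO 𝓘 U) y = x := by
  haveI := hS.mono_f
  haveI := hS.epi_g
  let gU : Γ(S.X₂, U) →ₗ[Γ(X, U)] Γ(S.X₃, U) :=
    { toFun := S.g.app U
      map_add' := map_add _
      map_smul' := fun a s => Scheme.Modules.Hom.app_smul S.g a s }
  have hsurj : LinearMap.range gU = ⊤ :=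
    LinearMap.range_eq_top.2 (M1.app_surjective_affine_of_isQCoh ‹Coh.IsQCoh S.X₂› ‹Coh.IsQCoh S.X₃› S.g hU)
  have hlev : ∀ n, ∃ m, resC 𝓘 h S.X₂ n U (S.f.app U m) =
      piM h (FSch.complMod 𝓘 S.X₂) (zO 𝓘 U) n x := fun n => by
    obtain ⟨s, hs⟩ := resC_surjective 𝓘 h S.X₂ hU n (piM h (FSch.complMod 𝓘 S.X₂) (zO 𝓘 U) n x)
    have h4 : S.g.app U s ∈ 𝓘.ideal ⟨U, hU⟩ ^ (n + 1) • (⊤ : Submodule Γ(X, U) Γ(S.X₃, U)) := by
      refine (resC_eq_zero_iff 𝓘 h S.X₃ hU n _).1 ?_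
      rw [← map_resC, hs, ← piM_cplMap, hx, map_zero]
    rw [← hsurj, ← Submodule.map_top, ← Submodule.map_smul''] at h4
    obtain ⟨t, ht, hts⟩ := h4
    obtain ⟨m, hm⟩ := M1.sections_exact hS.exact U (s - t) (by
      rw [map_sub, sub_eq_zero]; exact hts.symm)
    exact ⟨m, by rw [hm, map_sub, (resC_eq_zero_iff 𝓘 h S.X₂ hU n t).2 ht, sub_zero, hs]⟩
  choose m hm using hlev
  obtain ⟨y, hy⟩ := exists_of_compatible 𝓘 h S.X₁ hU (fun n => m (n + n₀)) fun n => hAR (n + 1) _ (by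
    rw [map_sub, show n + 1 + n₀ = n + n₀ + 1 by omega]
    exact step_level 𝓘 h S.X₂ hU x (n + n₀) _ _ (hm _) (by rw [← hm]))
  refine ⟨y, RSec_ext 𝓘 h S.X₂ fun n => ?_⟩
  rw [piM_cplMap, hy, map_resC,
    piM_lower 𝓘 h S.X₂ U x _ (n.le_add_right n₀) (hm (n + n₀)).symm]

/-- The arrows factoring through traces of good opens. -/
def goodSieve (P : X.Opens → Prop) (V : ((FSch.completionAlong X 𝓘).X 0).Opens) : Sieve V where
  arrows W _ := ∃ U : X.Opens, P U ∧ W ≤ zO 𝓘 U ∧ zO 𝓘 U ≤ V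
  downward_closed := by
    rintro W₁ W₂ f ⟨U, h1, h2, h3⟩ g
    exact ⟨U, h1, g.le.trans h2, h3⟩

theorem goodSieve_mem (P : X.Opens → Prop)
    (hP : ∀ (x : X) (U : X.Opens), x ∈ U → ∃ U', P U' ∧ x ∈ U' ∧ U' ≤ U)
    (V : ((FSch.completionAlong X 𝓘).X 0).Opens) :
    goodSieve (𝓘 := 𝓘) P V ∈ Opens.grothendieckTopology _ V := fun x hx => by
  obtain ⟨U, -, hxU, hUV⟩ := exists_affine_zO hx
  obtain ⟨U', hP', hxU', hle⟩ := hP _ U hxU
  exact ⟨zO 𝓘 U', homOfLE ((zO_mono 𝓘 hle).trans hUV), ⟨U', hP', le_rfl, (zO_mono 𝓘 hle).trans hUV⟩, hxU'⟩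

theorem shortExact_of_AR (S : ShortComplex X.Modules) (hS : S.ShortExact) [Coh.IsQCoh S.X₁] [Coh.IsQCoh S.X₂]
    [Coh.IsQCoh S.X₃] (P : X.Opens → Prop)
    (hP : ∀ (x : X) (U : X.Opens), x ∈ U → ∃ U', P U' ∧ x ∈ U' ∧ U' ≤ U)
    (hAff : ∀ U, P U → IsAffineOpen U) (n₀ : ℕ)
    (hAR : ∀ (U : X.Opens) (hU : P U), ARAt (𝓘 := 𝓘) S.f (hAff U hU) n₀) :
    ∃ w : FSch.ModSys.realModMap h (FSch.complModMap 𝓘 S.f) ≫
        FSch.ModSys.realModMap h (FSch.complModMap 𝓘 S.g) = 0,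
      (ShortComplex.mk _ _ w).ShortExact := by
  haveI := hS.mono_f
  haveI := hS.epi_g
  haveI : Mono (FSch.ModSys.realModMap h (FSch.complModMap 𝓘 S.f)) := by
    refine mono_of_sections _ fun V x hx => ?_
    refine sect_ext _ (goodSieve P V) (goodSieve_mem P hP V) fun W l hl => ?_
    obtain ⟨U, hU, h1, h2⟩ := hl
    rw [map_zero]
    have h0 : rS h (FSch.complMod 𝓘 S.X₁) h2 x = 0 := cplMap_injective' h S.f (hAff U hU) (hAR U hU) _ (by
      rw [cplMap_rS]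
      exact (congrArg (rS h (FSch.complMod 𝓘 S.X₂) h2) hx).trans (map_zero _))
    refine Eq.trans ?_ ((congrArg (rS h (FSch.complMod 𝓘 S.X₁) h1) h0).trans (map_zero _))
    exact (rS_comp h (FSch.complMod 𝓘 S.X₁) h2 h1 x).symm
  haveI : Epi (FSch.ModSys.realModMap h (FSch.complModMap 𝓘 S.g)) := by
    refine epi_of_locally _ fun V y => ⟨goodSieve P V, goodSieve_mem P hP V, fun W l hl => ?_⟩
    obtain ⟨U, hU, h1, h2⟩ := hl
    obtain ⟨x, hx⟩ := cplMap_surjective' h S.g (hAff U hU) (rS h (FSch.complMod 𝓘 S.X₃) h2 y)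
    refine ⟨rS h (FSch.complMod 𝓘 S.X₂) h1 x, ?_⟩
    refine (cplMap_rS h S.g h1 x).trans ?_
    rw [hx]
    exact rS_comp h (FSch.complMod 𝓘 S.X₃) h2 h1 y
  have w : FSch.ModSys.realModMap h (FSch.complModMap 𝓘 S.f) ≫
      FSch.ModSys.realModMap h (FSch.complModMap 𝓘 S.g) = 0 := by
    apply SheafOfModules.hom_ext
    refine PresheafOfModules.hom_ext fun V => ?_
    obtain ⟨V, rfl⟩ : ∃ V', op V' = V := ⟨V.unop, rfl⟩
    refine ModuleCat.hom_ext (LinearMap.ext fun x => ?_)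
    show cplMap 𝓘 h S.g V (cplMap 𝓘 h S.f V x) = (0 : RSec h (FSch.complMod 𝓘 S.X₃) V)
    refine piM_ext h _ _ fun n => ?_
    rw [piM_cplMap, piM_cplMap]
    have e : (Scheme.Modules.pullback (FSch.completionToX X 𝓘 n)).map S.f ≫
        (Scheme.Modules.pullback (FSch.completionToX X 𝓘 n)).map S.g = 0 := by
      rw [← Functor.map_comp, S.zero, Functor.map_zero]
    exact congrArg (fun q => q.app ((FSch.completionAlong X 𝓘).lvU h n V)
      (piM h (FSch.complMod 𝓘 S.X₁) V n x)) e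
  refine ⟨w, shortExact_of_locally _ _ w fun V x hx0 =>
    ⟨goodSieve P V, goodSieve_mem P hP V, fun W l hl => ?_⟩⟩
  obtain ⟨U, hU, e1, e2⟩ := hl
  have hx : cplMap 𝓘 h S.g (zO 𝓘 U) (rS h (FSch.complMod 𝓘 S.X₂) e2 x) = 0 := by
    rw [cplMap_rS]
    exact (congrArg (rS h (FSch.complMod 𝓘 S.X₃) e2) hx0).trans (map_zero _)
  obtain ⟨z, hz⟩ := cplMap_exact' h S hS (hAff U hU) (hAR U hU) _ hx
  refine ⟨rS h (FSch.complMod 𝓘 S.X₁) e1 z, ?_⟩
  refine (cplMap_rS h S.f e1 z).trans ?_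
  rw [hz]
  exact rS_comp h (FSch.complMod 𝓘 S.X₂) e2 e1 x

end Groth.Agent.TopFTCpl12
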