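import Groth.Agent.Lib.TopFTCpl12.Spec
import Groth.Agent.Lib.TopFTCpl12.Exact
import Groth.Agent.Lib.ModM1.Affine
import Groth.Agent.S11528

/-!
# The Artin-Rees property on basic opens, and exactness
-/

set_option autoImplicit false
set_option linter.style.haveILetI false
set_option backward.isDefEq.respectTransparency false
set_option backward.isDefEq.respectTransparency.types false
universe u

open CategoryTheory CategoryTheory.Limits AlgebraicGeometry Opposite TopologicalSpace

namespace Groth.Agent.TopFTCpl12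

open FormalModH7

theorem localize_mem {A M L : Type*} [CommRing A] [AddCommGroup M] [Module A M] [AddCommGroup L] [Module A L]
    (S : Submonoid A) (loc : M →ₗ[A] L) [IsLocalizedModule S loc] (K : Ideal A) (s : L)
    (hs : s ∈ K • (⊤ : Submodule A L)) :
    ∃ (c : S) (m : M), m ∈ K • (⊤ : Submodule A M) ∧ c • s = loc m := by
  refine Submodule.smul_induction_on hs (fun a ha n _ => ?_) (fun a b ha hb => ?_)
  · obtain ⟨⟨m, c⟩, hc⟩ := IsLocalizedModule.surj S loc n
    exact ⟨c, a • m, Submodule.smul_mem_smul ha trivial, by rw [map_smul, smul_comm c a n, hc]⟩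
  · obtain ⟨c, m, hm, e⟩ := ha
    obtain ⟨d, m', hm', e'⟩ := hb
    refine ⟨c * d, d • m + c • m', Submodule.add_mem _ (Submodule.smul_mem _ _ hm) (Submodule.smul_mem _ _ hm'), ?_⟩
    rw [map_add, smul_add, mul_comm, mul_smul, e, mul_comm d, mul_smul, e']
    simp [Submonoid.smul_def, map_smul]

theorem mem_of_smul_mem {A M L : Type*} [CommRing A] [AddCommGroup M] [Module A M] [AddCommGroup L] [Module A L]
    (S : Submonoid A) (loc : M →ₗ[A] L) [IsLocalizedModule S loc] (K : Ideal A) (c : S) (s : L)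
    (hs : c • s ∈ K • (⊤ : Submodule A L)) : s ∈ K • (⊤ : Submodule A L) := by
  obtain ⟨e, he⟩ : ∃ e : Module.End A L, e * algebraMap A (Module.End A L) c = 1 :=
    ⟨_, (IsLocalizedModule.map_units loc c).unit.inv_mul⟩
  have h1 : s = e (c • s) := (LinearMap.congr_fun he s).symm
  rw [h1]
  exact (Submodule.map_le_iff_le_comap.1 (by
    rw [Submodule.map_smul'']
    exact Submodule.smul_mono le_rfl le_top) : K • (⊤ : Submodule A L) ≤ (K • ⊤ : Submodule A L).comap e) hs

/-- The Artin-Rees property localizes. -/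
theorem localize_AR {A M M' L L' : Type*} [CommRing A] [AddCommGroup M] [Module A M] [AddCommGroup L] [Module A L]
    [AddCommGroup M'] [Module A M'] [AddCommGroup L'] [Module A L']
    (S : Submonoid A) (loc : M →ₗ[A] L) [IsLocalizedModule S loc] (loc' : M' →ₗ[A] L') [IsLocalizedModule S loc']
    (u : M' →ₗ[A] M) (v : L' →+ L) (hv : ∀ (a : A) (x : L'), v (a • x) = a • v x) (huv : ∀ y, v (loc' y) = loc (u y))
    (K K' : Ideal A) (hu : ∀ y, u y ∈ K • (⊤ : Submodule A M) → y ∈ K' • (⊤ : Submodule A M'))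
    (s : L') (hs : v s ∈ K • (⊤ : Submodule A L)) : s ∈ K' • (⊤ : Submodule A L') := by
  obtain ⟨⟨y, c⟩, hc⟩ := IsLocalizedModule.surj S loc' s
  obtain ⟨d, m, hm, hd⟩ := localize_mem S loc K _ hs
  have h1 : loc (d • u y) = loc (c • m) := by
    simp only [Submonoid.smul_def, map_smul] at *
    rw [← huv, ← hc, hv, ← hd, smul_comm]
  obtain ⟨e, he⟩ := IsLocalizedModule.exists_of_eq (S := S) h1
  have h2 : ((e * d : S) : A) • y ∈ K' • (⊤ : Submodule A M') := hu _ (by
    rw [map_smul, show ((e * d : S) : A) • u y = e • d • u y by simp [Submonoid.smul_def, mul_smul], he]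
    exact Submodule.smul_mem _ _ (Submodule.smul_mem _ _ hm))
  refine mem_of_smul_mem S loc' K' (e * d * c) s ?_
  have h3 := Submodule.mem_map_of_mem (f := loc') h2
  rw [Submodule.map_smul'', map_smul, ← hc] at h3
  rw [mul_smul]
  exact Submodule.smul_mono le_rfl le_top h3

/-- A basic open of an affine spectrum. -/
abbrev bO {A : CommRingCat.{u}} (f : A) : (Spec A).Opens := PrimeSpectrum.basicOpen f

variable {A : CommRingCat.{u}}

theorem ideal_basicOpen (J : Ideal A) (f : A) :
    (FSch.idealSpec A J).ideal ⟨bO f, IsAffineOpen.Spec_basicOpen f⟩ =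
      J.map (algebraMap A Γ(Spec A, bO f)) := by
  rw [← (FSch.idealSpec A J).map_ideal (U := ⟨_, IsAffineOpen.Spec_basicOpen f⟩)
      (V := ⟨⊤, isAffineOpen_top _⟩) (show bO f ≤ ⊤ from le_top),
    FormalH7.idealSpec_ideal_top', Ideal.map_map]
  rfl

set_option maxHeartbeats 400000 in
set_option synthInstance.maxHeartbeats 100000 in
theorem mem_ideal_smul_iff (J : Ideal A) (M : ModuleCat.{u} A) (f : A) (p : ℕ) (s : Γ(tilde M, bO f)) :
    s ∈ ((FSch.idealSpec A J).ideal ⟨bO f, IsAffineOpen.Spec_basicOpen f⟩ : Ideal Γ(Spec A, bO f)) ^ p •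
        (⊤ : Submodule Γ(Spec A, bO f) Γ(tilde M, bO f)) ↔
      s ∈ J ^ p • (⊤ : Submodule A Γ(tilde M, bO f)) := by
  rw [ideal_basicOpen, ← Ideal.map_pow, ← Submodule.restrictScalars_top A Γ(Spec A, bO f) Γ(tilde M, bO f),
    ← Ideal.smul_restrictScalars, Submodule.restrictScalars_mem]

theorem ARAt_basicOpen (J : Ideal A) {M' M : ModuleCat.{u} A} (u : M' ⟶ M) (f : A) (n₀ : ℕ)
    [Coh.IsQCoh (tilde M')] [Coh.IsQCoh (tilde M)]
    (hu : ∀ p y, u.hom y ∈ J ^ (p + n₀) • (⊤ : Submodule A M) → y ∈ J ^ p • (⊤ : Submodule A M')) :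
    ARAt (𝓘 := FSch.idealSpec A J) ((tilde.functor A).map u) (IsAffineOpen.Spec_basicOpen f) n₀ := by
  intro p s hs
  refine (mem_ideal_smul_iff J M' f p s).2 ?_
  refine localize_AR (A := A) (.powers f) (tilde.toOpen M (bO f)).hom (tilde.toOpen M' (bO f)).hom u.hom
    (((tilde.functor A).map u).app (bO f)).hom ?_ ?_ (J ^ (p + n₀)) (J ^ p) (hu p) s
    ((mem_ideal_smul_iff J M f (p + n₀) _).1 hs)
  · intro a x
    exact Scheme.Modules.Hom.app_smul ((tilde.functor A).map u) _ x
  · intro y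
    exact congrArg (fun q => q.hom y) (tilde.toOpen_map_app u _)

theorem shortExact_completion {A : Type u} [CommRing A] {R : Type u} [CommRing R] {I : Ideal R} (hR : AdicRing.IsBase R I)
    [Algebra R A] (hA : AdicRing.TopFiniteType R I A)
    (h : (FSch.completionAlong (Spec (CommRingCat.of A)) (FSch.idealSpec A (I.map (algebraMap R A)))).IsFormal)
    (S : ShortComplex (ModuleCat.{u} A)) (hS : S.ShortExact) [Module.Finite A S.X₂] :
    ∃ w : FSch.ModSys.realModMap h (FSch.complModMap (FSch.idealSpec A (I.map (algebraMap R A))) (tmap S.f)) ≫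
        FSch.ModSys.realModMap h (FSch.complModMap (FSch.idealSpec A (I.map (algebraMap R A))) (tmap S.g)) = 0,
      (ShortComplex.mk _ _ w).ShortExact := by
  letI : Module R S.X₂ := Module.compHom S.X₂ (algebraMap R A)
  haveI : IsScalarTower R A S.X₂ := IsScalarTower.of_algebraMap_smul fun _ _ => rfl
  obtain ⟨n₀, hn⟩ := Groth.Agent.S11528.result R I hR A hA S.X₂ (LinearMap.range S.f.hom)
  have hinj : Function.Injective S.f.hom := hS.moduleCat_injective_f
  have hu : ∀ p y, S.f.hom y ∈ (I.map (algebraMap R A)) ^ (p + n₀) • (⊤ : Submodule A S.X₂) →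
      y ∈ (I.map (algebraMap R A)) ^ p • (⊤ : Submodule A S.X₁) := by
    intro p y hy
    rw [← Ideal.map_pow, ← Submodule.restrictScalars_mem R, Ideal.smul_restrictScalars,
      Submodule.restrictScalars_top] at hy
    have h1 := hn p ⟨hy, ⟨y, rfl⟩⟩
    rw [← Ideal.smul_restrictScalars, Submodule.restrictScalars_mem, Ideal.map_pow, ← Submodule.map_top,
      ← Submodule.map_smul''] at h1
    obtain ⟨z, hz, e⟩ := h1
    exact hinj e ▸ hz
  haveI : PreservesFiniteLimits (tilde.functor (CommRingCat.of A)) := M1.tilde_preservesFiniteLimits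
  haveI : PreservesFiniteColimits (tilde.functor (CommRingCat.of A)) :=
    haveI : PreservesColimitsOfSize.{0, 0} (tilde.functor (CommRingCat.of A)) :=
      (tilde.adjunction (R := CommRingCat.of A)).leftAdjoint_preservesColimits
    PreservesColimitsOfSize.preservesFiniteColimits.{0, 0} _
  haveI := isQCoh_TM S.X₁
  haveI := isQCoh_TM S.X₂
  haveI := isQCoh_TM S.X₃
  let S' : ShortComplex (Spec (CommRingCat.of A)).Modules := S.map (tilde.functor (CommRingCat.of A))
  have hS' : S'.ShortExact := hS.map_of_exact (tilde.functor (CommRingCat.of A))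
  haveI : Coh.IsQCoh S'.X₁ := isQCoh_TM S.X₁
  haveI : Coh.IsQCoh S'.X₂ := isQCoh_TM S.X₂
  haveI : Coh.IsQCoh S'.X₃ := isQCoh_TM S.X₃
  refine shortExact_of_AR h S' hS' (fun U => ∃ f : (CommRingCat.of A : CommRingCat.{u}), U = bO f)
    (fun x U hx => ?_) (fun U hU => ?_) n₀ (fun U hU => ?_)
  · obtain ⟨_, ⟨f, rfl⟩, hxf, hfU⟩ := PrimeSpectrum.isTopologicalBasis_basic_opens.exists_subset_of_mem_open hx U.2
    exact ⟨_, ⟨f, rfl⟩, hxf, hfU⟩
  · obtain ⟨f, rfl⟩ := hU
    exact IsAffineOpen.Spec_basicOpen f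
  · obtain ⟨f, rfl⟩ := hU
    exact ARAt_basicOpen (A := CommRingCat.of A) _ S.f f n₀ hu

end Groth.Agent.TopFTCpl12
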