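import Groth.Agent.Lib.TopFTCpl12.Spec
import Groth.Agent.Lib.FormalModH7.CplExact
import Groth.Agent.Lib.ModM1.Affine

/-!
# Reflecting exactness from completions
-/

set_option autoImplicit false
set_option linter.style.haveILetI false
set_option backward.isDefEq.respectTransparency false
set_option backward.isDefEq.respectTransparency.types false
universe u

open CategoryTheory CategoryTheory.Limits AlgebraicGeometry Opposite TopologicalSpace

namespace Groth.Agent.TopFTCpl12

open FormalModH7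

theorem comp_zero {X : Scheme.{u}} (𝓘 : X.IdealSheafData) (h : (FSch.completionAlong X 𝓘).IsFormal)
    {F G H : X.Modules} (φ : F ⟶ G) (ψ : G ⟶ H) (w : φ ≫ ψ = 0) :
    FSch.ModSys.realModMap h (FSch.complModMap 𝓘 φ) ≫ FSch.ModSys.realModMap h (FSch.complModMap 𝓘 ψ) = 0 := by
  apply SheafOfModules.hom_ext
  refine PresheafOfModules.hom_ext fun V => ?_
  obtain ⟨V, rfl⟩ : ∃ V', op V' = V := ⟨V.unop, rfl⟩
  refine ModuleCat.hom_ext (LinearMap.ext fun x => ?_)
  show cplMap 𝓘 h ψ V (cplMap 𝓘 h φ V x) = (0 : RSec h (FSch.complMod 𝓘 H) V)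
  refine piM_ext h _ _ fun n => ?_
  rw [piM_cplMap, piM_cplMap]
  have e : (Scheme.Modules.pullback (FSch.completionToX X 𝓘 n)).map φ ≫
      (Scheme.Modules.pullback (FSch.completionToX X 𝓘 n)).map ψ = 0 := by
    rw [← Functor.map_comp, w, Functor.map_zero]
  exact congrArg (fun q => q.app ((FSch.completionAlong X 𝓘).lvU h n V)
    (piM h (FSch.complMod 𝓘 F) V n x)) e

theorem cplMap_comp_eq_zero {X : Scheme.{u}} (𝓘 : X.IdealSheafData) (h : (FSch.completionAlong X 𝓘).IsFormal)
    {F G H : X.Modules} (φ : F ⟶ G) (ψ : G ⟶ H)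
    (w : FSch.ModSys.realModMap h (FSch.complModMap 𝓘 φ) ≫ FSch.ModSys.realModMap h (FSch.complModMap 𝓘 ψ) = 0)
    (V : ((FSch.completionAlong X 𝓘).X 0).Opens) (x : RSec h (FSch.complMod 𝓘 F) V) :
    cplMap 𝓘 h ψ V (cplMap 𝓘 h φ V x) = 0 :=
  congrArg (fun q => q.val.app (op V) x) w

theorem cplMap_lift {X : Scheme.{u}} (𝓘 : X.IdealSheafData) (h : (FSch.completionAlong X 𝓘).IsFormal)
    {F G H : X.Modules} (φ : F ⟶ G) (ψ : G ⟶ H)
    (w : FSch.ModSys.realModMap h (FSch.complModMap 𝓘 φ) ≫ FSch.ModSys.realModMap h (FSch.complModMap 𝓘 ψ) = 0)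
    (hS : (ShortComplex.mk _ _ w).ShortExact)
    (V : ((FSch.completionAlong X 𝓘).X 0).Opens) :
    Function.Injective (cplMap 𝓘 h φ V) ∧
      ∀ x, cplMap 𝓘 h ψ V x = 0 → ∃ y, cplMap 𝓘 h φ V y = x := by
  haveI := hS.mono_f
  refine ⟨ModFlat16.sections_injective' (FSch.ModSys.realModMap h (FSch.complModMap 𝓘 φ)) V, fun x hx => ?_⟩
  let ev := SheafOfModules.evaluation.{u} (ModSite.ringSh ((FSch.completionAlong X 𝓘).Osh h)) (op V)
  haveI : PreservesLimitsOfShape WalkingParallelPair ev := inferInstance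
  haveI : ev.PreservesZeroMorphisms := ⟨fun _ _ => rfl⟩
  have h2 : ((ShortComplex.mk _ _ w).map ev).Exact := by
    refine ShortComplex.exact_of_f_is_kernel _ ?_
    exact (KernelFork.mapIsLimit _ hS.fIsKernel ev)
  rw [ShortComplex.moduleCat_exact_iff] at h2
  obtain ⟨y, hy⟩ := h2 x hx
  exact ⟨y, hy⟩

theorem shortExact_of_completion {A : Type u} [CommRing A] (J : Ideal A)
    (h : (FSch.completionAlong (Spec (CommRingCat.of A)) (FSch.idealSpec A J)).IsFormal)
    (hadic : ∀ (M : ModuleCat.{u} A) [Module.Finite A M], IsAdicComplete J M)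
    (M₁ M₂ M₃ : ModuleCat.{u} A) [Module.Finite A M₁] [Module.Finite A M₂] [Module.Finite A M₃]
    (u : M₁ ⟶ M₂) (v : M₂ ⟶ M₃)
    (w : FSch.ModSys.realModMap h (FSch.complModMap (FSch.idealSpec A J) (tmap u)) ≫
      FSch.ModSys.realModMap h (FSch.complModMap (FSch.idealSpec A J) (tmap v)) = 0)
    (hS : (ShortComplex.mk _ _ w).ShortExact) :
    ∃ w : u ≫ v = 0, (ShortComplex.mk u v w).ShortExact := by
  haveI := hadic M₁
  haveI := hadic M₂
  haveI := hadic M₃
  obtain ⟨hinj, hlift⟩ := cplMap_lift _ h _ _ w hS (zO (FSch.idealSpec A J) ⊤)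
  have hpsi0 : ∀ (M : ModuleCat.{u} A), psi J h M 0 = 0 := fun M => by
    rw [psi, map_zero, cplSec_zero]
  have w0 : u ≫ v = 0 := ModuleCat.hom_ext (LinearMap.ext fun x => psi_injective J h M₃ (by
    show psi J h M₃ (v.hom (u.hom x)) = psi J h M₃ 0
    rw [hpsi0, ← cplMap_psi, ← cplMap_psi]
    exact cplMap_comp_eq_zero _ h _ _ w _ _))
  haveI : Mono u := (ModuleCat.mono_iff_injective u).2 fun a b e => psi_injective J h M₁ (hinj (by
    rw [cplMap_psi, cplMap_psi]
    exact congrArg _ e))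
  haveI : Epi v := by
    let Q : ModuleCat.{u} A := ModuleCat.of A (M₃ ⧸ LinearMap.range v.hom)
    haveI := hadic Q
    let π : M₃ ⟶ Q := ModuleCat.ofHom (LinearMap.range v.hom).mkQ
    have hvπ : tmap v ≫ tmap π = 0 := by
      have e : v ≫ π = 0 := ModuleCat.hom_ext (LinearMap.ext fun x =>
        (Submodule.Quotient.mk_eq_zero _).2 ⟨x, rfl⟩)
      haveI : PreservesFiniteLimits (tilde.functor (CommRingCat.of A)) := M1.tilde_preservesFiniteLimits
      haveI : (tilde.functor (CommRingCat.of A)).PreservesZeroMorphisms :=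
        Functor.preservesZeroMorphisms_of_preserves_terminal_object
      rw [tmap, tmap, ← Functor.map_comp, e, Functor.map_zero]
    haveI := hS.epi_g
    have hz : FSch.ModSys.realModMap h (FSch.complModMap (FSch.idealSpec A J) (tmap π)) = 0 :=
      (cancel_epi (FSch.ModSys.realModMap h (FSch.complModMap (FSch.idealSpec A J) (tmap v)))).1
        ((comp_zero (FSch.idealSpec A J) h _ _ hvπ).trans (CategoryTheory.Limits.comp_zero).symm)
    rw [ModuleCat.epi_iff_surjective]
    intro y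
    have hy : π.hom y = 0 := psi_injective J h Q (by
      rw [hpsi0, ← cplMap_psi]
      exact congrArg (fun q => q.val.app (op (zO (FSch.idealSpec A J) ⊤)) (psi J h M₃ y)) hz)
    exact (Submodule.Quotient.mk_eq_zero _).1 hy
  refine ⟨w0, ⟨?_⟩⟩
  rw [ShortComplex.moduleCat_exact_iff]
  intro x hx
  obtain ⟨z, hz⟩ := hlift (psi J h M₂ x) (by
    rw [cplMap_psi, show v.hom x = 0 from hx, hpsi0])
  obtain ⟨y, rfl⟩ := psi_surjective J h M₁ z
  exact ⟨y, psi_injective J h M₂ ((cplMap_psi J h u y).symm.trans hz)⟩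

end Groth.Agent.TopFTCpl12
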