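import Groth.Agent.Lib.FormalModH7.Spf
import Groth.Agent.Lib.FormalModH7.CplSec
import Groth.Agent.Lib.FormalModH7.SectGen

/-!
# Completions of quasi-coherent modules along finitely generated ideals
-/

set_option autoImplicit false
set_option linter.style.haveILetI false
set_option backward.isDefEq.respectTransparency false
set_option backward.isDefEq.respectTransparency.types false
universe u

open CategoryTheory CategoryTheory.Limits AlgebraicGeometry Opposite TopologicalSpace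

namespace Groth.Agent.TopFTCpl12

open FormalModH7

theorem exists_sum_smul {R M ι : Type*} [CommRing R] [AddCommGroup M] [Module R M] [Fintype ι]
    (t : ι → R) (P : Submodule R M) (x : M) (hx : x ∈ Ideal.span (Set.range t) • P) :
    ∃ d : ι → M, (∀ i, d i ∈ P) ∧ ∑ i, t i • d i = x := by
  classical
  refine Submodule.smul_induction_on hx (fun a ha n hn => ?_) (fun a b ha hb => ?_)
  · obtain ⟨c, rfl⟩ := (Submodule.mem_span_range_iff_exists_fun R).1 ha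
    exact ⟨fun i => c i • n, fun i => P.smul_mem _ hn, by
      simp [Finset.sum_smul, smul_smul, mul_comm]⟩
  · obtain ⟨d, hd, rfl⟩ := ha
    obtain ⟨e, he, rfl⟩ := hb
    exact ⟨fun i => d i + e i, fun i => P.add_mem (hd i) (he i), by
      simp [smul_add, Finset.sum_add_distrib]⟩

theorem exists_series {R M ι : Type*} [CommRing R] [AddCommGroup M] [Module R M] [Fintype ι]
    (I : Ideal R) (k : ℕ) (t : ι → R) (ht : Ideal.span (Set.range t) = I ^ (k + 1)) (s : ℕ → M)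
    (hk : s k ∈ I ^ (k + 1) • (⊤ : Submodule R M))
    (hdiff : ∀ m, s (m + 1) - s m ∈ I ^ (m + 1) • (⊤ : Submodule R M)) :
    ∃ e : ι → ℕ → M, (∀ m, ∑ j, t j • e j m = s (m + k)) ∧
      ∀ j m, e j (m + 1) - e j m ∈ I ^ m • (⊤ : Submodule R M) := by
  classical
  have hd0 : ∀ m, ∃ d : ι → M, (∀ j, d j ∈ I ^ m • (⊤ : Submodule R M)) ∧
      ∑ j, t j • d j = s (m + k + 1) - s (m + k) := fun m => by
    refine exists_sum_smul t _ _ ?_
    rw [ht, ← Submodule.smul_assoc, smul_eq_mul, ← pow_add, show k + 1 + m = m + k + 1 by omega]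
    exact hdiff (m + k)
  choose d hdI hd using hd0
  obtain ⟨d₀, -, hd₀⟩ := exists_sum_smul t _ _ (ht.symm ▸ hk)
  let e : ι → ℕ → M := fun j m => d₀ j + ∑ i ∈ Finset.range m, d i j
  refine ⟨e, fun m => ?_, fun j m => ?_⟩
  · induction m with
    | zero => simpa [e] using hd₀
    | succ m ih =>
      simp only [e, Finset.sum_range_succ, ← add_assoc, smul_add, Finset.sum_add_distrib] at ih ⊢
      rw [ih, hd, show m + 1 + k = m + k + 1 by omega]
      abel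
  · simp only [e, Finset.sum_range_succ]
    rw [show ∀ a b c : M, a + (b + c) - (a + b) = c from fun a b c => by abel]
    exact hdI m j

variable {X : Scheme.{u}} (𝓘 : X.IdealSheafData) (h : (FSch.completionAlong X 𝓘).IsFormal)
  (F : X.Modules) [Coh.IsQCoh F]

theorem piM_lower (U : X.Opens) (x : RSec h (FSch.complMod 𝓘 F) (zO 𝓘 U)) (s : Γ(F, U)) {n m : ℕ}
    (hnm : n ≤ m) (hx : piM h (FSch.complMod 𝓘 F) (zO 𝓘 U) m x = resC 𝓘 h F m U s) :
    piM h (FSch.complMod 𝓘 F) (zO 𝓘 U) n x = resC 𝓘 h F n U s :=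
  piM_eq_resC_of_le 𝓘 h x s hnm hx

theorem exists_of_compatible {U : X.Opens} (hU : IsAffineOpen U) (e : ℕ → Γ(F, U))
    (he : ∀ n, e (n + 1) - e n ∈ 𝓘.ideal ⟨U, hU⟩ ^ (n + 1) • (⊤ : Submodule Γ(X, U) Γ(F, U))) :
    ∃ w : RSec h (FSch.complMod 𝓘 F) (zO 𝓘 U),
      ∀ n, piM h (FSch.complMod 𝓘 F) (zO 𝓘 U) n w = resC 𝓘 h F n U (e n) := by
  have key : ∀ y : ∀ n, MV h (FSch.complMod 𝓘 F) (zO 𝓘 U) n,
      (∀ n, y n = resC 𝓘 h F n U (e n)) →
      ∃ w : RSec h (FSch.complMod 𝓘 F) (zO 𝓘 U), ∀ n, piM h (FSch.complMod 𝓘 F) (zO 𝓘 U) n w = y n := fun y hy =>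
    exists_piM h (FSch.complMod 𝓘 F) (zO 𝓘 U) y fun n => by
      rw [hy, hy, trM_resC]
      exact sub_eq_zero.1 ((map_sub _ _ _).symm.trans ((resC_eq_zero_iff 𝓘 h F hU n _).2 (he n)))
  obtain ⟨w, hw⟩ := key (fun n => resC 𝓘 h F n U (e n)) fun _ => rfl
  exact ⟨w, hw⟩

theorem step_level {U : X.Opens} (hU : IsAffineOpen U) (z : RSec h (FSch.complMod 𝓘 F) (zO 𝓘 U))
    (m : ℕ) (a b : Γ(F, U)) (ha : resC 𝓘 h F m U a = piM h (FSch.complMod 𝓘 F) (zO 𝓘 U) m z)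
    (hb : resC 𝓘 h F (m + 1) U b = piM h (FSch.complMod 𝓘 F) (zO 𝓘 U) (m + 1) z) :
    b - a ∈ 𝓘.ideal ⟨U, hU⟩ ^ (m + 1) • (⊤ : Submodule Γ(X, U) Γ(F, U)) := by
  refine (resC_eq_zero_iff 𝓘 h F hU m _).1 ?_
  rw [map_sub, sub_eq_zero, ha, piM_lower 𝓘 h F U z b m.le_succ hb.symm]

/-- Elements of the completion vanishing at a level are combinations with coefficients in the ideal. -/
theorem exists_sum_of_piM_eq_zero {U : X.Opens} (hU : IsAffineOpen U) (k : ℕ)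
    {ι : Type*} [Fintype ι] (t : ι → Γ(X, U))
    (ht : Ideal.span (Set.range t) = 𝓘.ideal ⟨U, hU⟩ ^ (k + 1))
    (z : RSec h (FSch.complMod 𝓘 F) (zO 𝓘 U)) (hz : piM h (FSch.complMod 𝓘 F) (zO 𝓘 U) k z = 0) :
    ∃ w : ι → RSec h (FSch.complMod 𝓘 F) (zO 𝓘 U), ∑ j, shA 𝓘 h U (t j) • w j = z := by
  choose s hs using fun m => resC_surjective 𝓘 h F hU m (piM h (FSch.complMod 𝓘 F) (zO 𝓘 U) m z)
  have hk : s k ∈ 𝓘.ideal ⟨U, hU⟩ ^ (k + 1) • (⊤ : Submodule Γ(X, U) Γ(F, U)) :=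
    (resC_eq_zero_iff 𝓘 h F hU k _).1 ((hs k).trans hz)
  obtain ⟨e, he, hec⟩ := exists_series _ k t ht s hk fun m => step_level 𝓘 h F hU z m _ _ (hs m) (hs (m + 1))
  choose w hw using fun j => exists_of_compatible 𝓘 h F hU (fun n => e j (n + 1)) fun n => hec j (n + 1)
  refine ⟨w, RSec_ext 𝓘 h F fun n => ?_⟩
  rw [piM_comb, piM_lower 𝓘 h F U z (s (n + 1 + k)) (by omega) (hs _).symm, ← he (n + 1), map_sum]
  refine Finset.sum_congr rfl fun j _ => ?_
  rw [hw, prj_shA, resC_smul]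

variable {G : X.Modules} [Coh.IsQCoh G]

/-- A map of completions killing the completions of generating sections is zero. -/
theorem eq_zero_of_gens (hfg : ∀ {U : X.Opens} (hU : IsAffineOpen U), (𝓘.ideal ⟨U, hU⟩).FG)
    (D : (FSch.complMod 𝓘 F).realMod h ⟶ (FSch.complMod 𝓘 G).realMod h)
    {T : X.Opens} (hT : IsAffineOpen T) (hTtop : T = ⊤) {σ : Type*} (g : σ → Γ(F, T))
    (hg : Submodule.span Γ(X, T) (Set.range g) = ⊤)
    (hD : ∀ i, D.val.app (op (zO 𝓘 T)) (cplSec 𝓘 h F T (g i)) = 0) :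
    D = 0 := by
  classical
  let DV : ∀ V, RSec h (FSch.complMod 𝓘 F) V →ₗ[AV (FSch.completionAlong X 𝓘) h V]
      RSec h (FSch.complMod 𝓘 G) V := fun V => (D.val.app (op V)).hom
  have hnat : ∀ {V W : ((FSch.completionAlong X 𝓘).X 0).Opens} (i : W ≤ V)
      (x : RSec h (FSch.complMod 𝓘 F) V),
      DV W (rS h _ i x) = rS h _ i (DV V x) := fun i x =>
    PresheafOfModules.naturality_apply D.val (homOfLE i).op x
  have key : ∀ (U : X.Opens), IsAffineOpen U → ∀ (k : ℕ) (x : RSec h (FSch.complMod 𝓘 F) (zO 𝓘 U)),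
      piM h (FSch.complMod 𝓘 G) (zO 𝓘 U) k (DV (zO 𝓘 U) x) = 0 := by
    intro U hU k x
    have e : U ≤ T := hTtop ▸ le_top
    have h0 : ∀ s : Γ(F, U), DV (zO 𝓘 U) (cplSec 𝓘 h F U s) = 0 := fun s => by
      have hspan := span_mres F hT hU e g hg
      have hs' : s ∈ Submodule.span Γ(X, U) (Set.range fun i => M1.mres F e (g i)) := hspan ▸ Submodule.mem_top
      induction hs' using Submodule.span_induction with
      | mem y hy =>
        obtain ⟨i, rfl⟩ := hy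
        rw [← rS_cplSec, hnat, show DV (zO 𝓘 T) (cplSec 𝓘 h F T (g i)) = 0 from hD i, map_zero]
      | zero => rw [cplSec_zero, map_zero]
      | add a b _ _ ha hb => rw [cplSec_add, map_add, ha, hb, add_zero]
      | smul a y _ hy => rw [cplSec_smul, map_smul, hy, smul_zero]
    obtain ⟨s, hs⟩ := resC_surjective 𝓘 h F hU k (piM h (FSch.complMod 𝓘 F) (zO 𝓘 U) k x)
    have h1 := h0 s
    obtain ⟨n, t, ht⟩ : ∃ (n : ℕ) (t : Fin n → Γ(X, U)),
        Ideal.span (Set.range t) = 𝓘.ideal ⟨U, hU⟩ ^ (k + 1) :=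
      Submodule.fg_iff_exists_fin_generating_family.1 (Submodule.FG.pow (hfg hU) _)
    have hz : piM h (FSch.complMod 𝓘 F) (zO 𝓘 U) k (x - cplSec 𝓘 h F U s) = 0 := by
      rw [map_sub, piM_cplSec, hs, sub_self]
    obtain ⟨w, hw⟩ := exists_sum_of_piM_eq_zero 𝓘 h F hU k t ht _ hz
    have h2 : DV (zO 𝓘 U) x = ∑ j, shA 𝓘 h U (t j) • DV (zO 𝓘 U) (w j) := by
      have := congrArg (DV (zO 𝓘 U)) hw
      rw [map_sub, h1, sub_zero] at this
      rw [← this, map_sum]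
      simp only [map_smul]
    rw [h2, piM_comb]
    refine Finset.sum_eq_zero fun j _ => ?_
    have : shL 𝓘 h k U (t j) = 0 := by
      rw [← RingHom.mem_ker, ker_shL 𝓘 h k hU, ← ht]
      exact Ideal.subset_span ⟨j, rfl⟩
    rw [prj_shA, this, zero_smul]
  apply SheafOfModules.hom_ext
  refine PresheafOfModules.hom_ext fun V => ?_
  obtain ⟨V, rfl⟩ : ∃ V', op V' = V := ⟨V.unop, rfl⟩
  refine ModuleCat.hom_ext (LinearMap.ext fun x => ?_)
  show DV V x = 0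
  refine piM_ext h _ _ fun k => ?_
  choose Uf hUf hxU hUV using fun (p : V) => exists_affine_zO (𝓘 := 𝓘) p.2
  refine M1.modules_eq_of_locally_eq ((FSch.complMod 𝓘 G).F k) _
    (fun p => (FSch.completionAlong X 𝓘).lvU h k (zO 𝓘 (Uf p))) (fun p => lvU_mono h (hUV p) k)
    (fun y hy => ?_) _ _ fun p => ?_
  · refine Opens.mem_iSup.2 ⟨⟨_, hy⟩, ?_⟩
    exact hxU ⟨_, hy⟩
  · have h3 := piM_rS h (FSch.complMod 𝓘 G) (hUV p) k (DV V x)
    rw [← hnat, key _ (hUf p)] at h3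
    exact h3.symm.trans (map_zero _).symm

/-- A map agreeing with the completion of a map on generators is that completion. -/
theorem eq_completion_of_gens (hfg : ∀ {U : X.Opens} (hU : IsAffineOpen U), (𝓘.ideal ⟨U, hU⟩).FG)
    (φ : F ⟶ G) (Φ : (FSch.complMod 𝓘 F).realMod h ⟶ (FSch.complMod 𝓘 G).realMod h)
    {T : X.Opens} (hT : IsAffineOpen T) (hTtop : T = ⊤) {σ : Type*} (g : σ → Γ(F, T))
    (hg : Submodule.span Γ(X, T) (Set.range g) = ⊤)
    (hD : ∀ i, Φ.val.app (op (zO 𝓘 T)) (cplSec 𝓘 h F T (g i)) =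
      cplMap 𝓘 h φ (zO 𝓘 T) (cplSec 𝓘 h F T (g i))) :
    FSch.ModSys.realModMap h (FSch.complModMap 𝓘 φ) = Φ :=
  (sub_eq_zero.1 (eq_zero_of_gens 𝓘 h F hfg (Φ - FSch.ModSys.realModMap h (FSch.complModMap 𝓘 φ)) hT hTtop g hg
    fun i => sub_eq_zero.2 (hD i))).symm

theorem cplMap_of_eq {φ ψ : F ⟶ G} (e : FSch.ModSys.realModMap h (FSch.complModMap 𝓘 φ) =
    FSch.ModSys.realModMap h (FSch.complModMap 𝓘 ψ)) (V : ((FSch.completionAlong X 𝓘).X 0).Opens)
    (x : RSec h (FSch.complMod 𝓘 F) V) : cplMap 𝓘 h φ V x = cplMap 𝓘 h ψ V x :=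
  congrArg (fun q => q.val.app (op V) x) e

end Groth.Agent.TopFTCpl12
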