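import Groth.Agent.Lib.TopFTCpl12.Gen
import Groth.Agent.S11529

/-!
# Homomorphisms of completions of modules over an adically complete ring
-/

set_option autoImplicit false
set_option linter.style.haveILetI false
set_option backward.isDefEq.respectTransparency false
set_option backward.isDefEq.respectTransparency.types false
universe u

open CategoryTheory CategoryTheory.Limits AlgebraicGeometry Opposite TopologicalSpace

namespace Groth.Agent.TopFTCpl12

open FormalModH7

theorem fg_map_of_isBase {R : Type u} [CommRing R] {I : Ideal R} (hR : AdicRing.IsBase R I)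
    (A : Type u) [CommRing A] [Algebra R A] : (I.map (algebraMap R A)).FG := by
  refine Ideal.FG.map ?_ _
  rcases hR.2 with ⟨hN, -⟩ | ⟨-, -, -, t, -, rfl⟩
  · exact IsNoetherian.noetherian I
  · exact ⟨{t}, by simp⟩

theorem isAdicComplete_map {R : Type u} [CommRing R] {I : Ideal R} (hR : AdicRing.IsBase R I)
    {A : Type u} [CommRing A] [Algebra R A] (hA : AdicRing.TopFiniteType R I A)
    (M : ModuleCat.{u} A) [Module.Finite A M] : IsAdicComplete (I.map (algebraMap R A)) M := by
  letI : Module R M := Module.compHom M (algebraMap R A)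
  haveI : IsScalarTower R A M := IsScalarTower.of_algebraMap_smul fun _ _ => rfl
  exact (IsAdicComplete.map_algebraMap_iff I M).2 (Groth.Agent.S11529.result R I hR A hA M)

variable {A : Type u} [CommRing A] (J : Ideal A)
  (h : (FSch.completionAlong (Spec (CommRingCat.of A)) (FSch.idealSpec A J)).IsFormal)

theorem isQCoh_TM (M : ModuleCat.{u} A) : Coh.IsQCoh (TM M) := inferInstance

theorem ideal_fg (hJ : J.FG) {U : (Spec (CommRingCat.of A)).Opens} (hU : IsAffineOpen U) :
    ((FSch.idealSpec A J).ideal ⟨U, hU⟩).FG := by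
  rw [← (FSch.idealSpec A J).map_ideal (U := ⟨U, hU⟩) (V := ⟨⊤, isAffineOpen_top _⟩) (show U ≤ ⊤ from le_top),
    FormalH7.idealSpec_ideal_top']
  exact (hJ.map _).map _

theorem resC_secTop_iff (M : ModuleCat.{u} A) (n : ℕ) (x : M) :
    resC (FSch.idealSpec A J) h (TM M) n ⊤ (secTop M x) = 0 ↔
      x ∈ J ^ (n + 1) • (⊤ : Submodule A M) := by
  haveI := isQCoh_TM M
  refine (resC_eq_zero_iff _ _ _ (isAffineOpen_top _) n (secTop _ x)).trans ?_
  rw [FormalH7.idealSpec_ideal_top', ← Ideal.map_pow]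
  exact (mem_smul_top_iff_of_semilinear (gT A)
    (ConcreteCategory.bijective_of_isIso (Scheme.ΓSpecIso (CommRingCat.of A)).inv).2 (secTop _) (secTop_bijective _)
    (secTop_smul _) _ x).symm

/-- The completion of an element. -/
noncomputable def psi (M : ModuleCat.{u} A) (x : M) :
    RSec h (FSch.complMod (FSch.idealSpec A J) (TM M)) (zO (FSch.idealSpec A J) ⊤) :=
  cplSec (FSch.idealSpec A J) h (TM M) ⊤ (secTop M x)

theorem psi_add (M : ModuleCat.{u} A) (x y : M) : psi J h M (x + y) = psi J h M x + psi J h M y := by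
  rw [psi, map_add, cplSec_add]
  rfl

theorem psi_smul (M : ModuleCat.{u} A) (a : A) (x : M) :
    psi J h M (a • x) = shA (FSch.idealSpec A J) h ⊤ (gT A a) • psi J h M x := by
  rw [psi, secTop_smul, cplSec_smul]
  rfl

theorem psi_injective (N : ModuleCat.{u} A) [IsAdicComplete J N] : Function.Injective (psi J h N) := by
  intro x y e
  refine sub_eq_zero.1 (IsHausdorff.haus' (I := J) _ fun n => ?_)
  rw [SModEq.zero]
  refine Submodule.smul_mono (Ideal.pow_le_pow_right n.le_succ) le_rfl ((resC_secTop_iff J h N n _).1 ?_)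
  rw [map_sub, map_sub, sub_eq_zero, ← piM_cplSec, ← piM_cplSec]
  exact congrArg _ e

theorem psi_surjective (N : ModuleCat.{u} A) [IsAdicComplete J N] : Function.Surjective (psi J h N) := by
  intro z
  haveI := isQCoh_TM N
  have hs : ∀ n, ∃ t : N, resC (FSch.idealSpec A J) h (TM N) n ⊤ (secTop N t) =
      piM h (FSch.complMod (FSch.idealSpec A J) (TM N)) (zO (FSch.idealSpec A J) ⊤) n z := fun n => by
    obtain ⟨s, hs⟩ := resC_surjective (FSch.idealSpec A J) h (TM N) (isAffineOpen_top _) n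
      (piM h (FSch.complMod (FSch.idealSpec A J) (TM N)) (zO (FSch.idealSpec A J) ⊤) n z)
    obtain ⟨t, rfl⟩ := (secTop_bijective N).2 s
    exact ⟨t, hs⟩
  choose t ht using hs
  have hdiff : ∀ n, t (n + 1) - t n ∈ J ^ (n + 1) • (⊤ : Submodule A N) := fun n => by
    refine (resC_secTop_iff J h N n _).1 ?_
    rw [map_sub, map_sub, sub_eq_zero, ht n,
      piM_lower (FSch.idealSpec A J) h (TM N) ⊤ z (secTop N (t (n + 1))) n.le_succ (ht (n + 1)).symm]
  have hc : ∀ {m n : ℕ}, m ≤ n → t m ≡ t n [SMOD (J ^ m • ⊤ : Submodule A N)] := fun {m n} e => by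
    induction n, e using Nat.le_induction with
    | base => rfl
    | succ n e ih =>
      exact ih.trans (SModEq.sub_mem.2 (Submodule.smul_mono (Ideal.pow_le_pow_right (e.trans n.le_succ)) le_rfl
        (neg_mem_iff.1 ((neg_sub (t n) (t (n + 1))).symm ▸ hdiff n))))
  obtain ⟨L, hL⟩ := IsPrecomplete.prec' (I := J) t hc
  refine ⟨L, RSec_ext _ h _ fun n => ?_⟩
  rw [psi, piM_cplSec,
    piM_lower (FSch.idealSpec A J) h (TM N) ⊤ z (secTop N (t (n + 1))) n.le_succ (ht (n + 1)).symm,
    ← sub_eq_zero, ← map_sub, ← map_sub, resC_secTop_iff]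
  exact neg_mem_iff.1 ((neg_sub L (t (n + 1))).symm ▸ SModEq.sub_mem.1 (hL (n + 1)))

/-- The map of tilde sheaves. -/
noncomputable def tmap {M N : ModuleCat.{u} A} (u : M ⟶ N) : TM M ⟶ TM N :=
  (tilde.functor (CommRingCat.of A)).map u

theorem app_secTop {M N : ModuleCat.{u} A} (u : M ⟶ N) (x : M) :
    (tmap u).app ⊤ (secTop M x) = secTop N (u.hom x) :=
  congrArg (fun q => q.hom x) (tilde.toOpen_map_app (R := CommRingCat.of A) u ⊤)

theorem cplMap_psi_aux {X : Scheme.{u}} (𝓘 : X.IdealSheafData) (h : (FSch.completionAlong X 𝓘).IsFormal)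
    {F G : X.Modules} (φ : F ⟶ G) (U : X.Opens) (s : Γ(F, U)) (t : Γ(G, U)) (e : φ.app U s = t) :
    cplMap 𝓘 h φ (zO 𝓘 U) (cplSec 𝓘 h F U s) = cplSec 𝓘 h G U t := by
  rw [cplMap_cplSec, e]

theorem cplMap_psi {M N : ModuleCat.{u} A} (u : M ⟶ N) (x : M) :
    cplMap (FSch.idealSpec A J) h (tmap u) (zO (FSch.idealSpec A J) ⊤)
      (psi J h M x) = psi J h N (u.hom x) := by
  unfold psi
  exact cplMap_psi_aux (FSch.idealSpec A J) h (F := TM M) (G := TM N)
    (tmap u) ⊤ (secTop M x) (secTop N (u.hom x)) (app_secTop u x)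

theorem exists_preimage (hJ : J.FG) (M N : ModuleCat.{u} A) [IsAdicComplete J N]
    (Φ : (FSch.complMod (FSch.idealSpec A J) (TM M)).realMod h ⟶
        (FSch.complMod (FSch.idealSpec A J) (TM N)).realMod h) :
    ∃ u : M ⟶ N, FSch.ModSys.realModMap h (FSch.complModMap (FSch.idealSpec A J) (tmap u)) = Φ := by
  haveI := isQCoh_TM M
  haveI := isQCoh_TM N
  let ΦT : RSec h (FSch.complMod (FSch.idealSpec A J) (TM M)) (zO (FSch.idealSpec A J) ⊤) →ₗ[
      AV (FSch.completionAlong (Spec (CommRingCat.of A)) (FSch.idealSpec A J)) h (zO (FSch.idealSpec A J) ⊤)]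
      RSec h (FSch.complMod (FSch.idealSpec A J) (TM N)) (zO (FSch.idealSpec A J) ⊤) :=
    (Φ.val.app (op (zO (FSch.idealSpec A J) ⊤))).hom
  choose u hu using fun x => psi_surjective J h N (ΦT (psi J h M x))
  let uL : M →ₗ[A] N :=
    { toFun := u
      map_add' := fun x y => psi_injective J h N (by rw [psi_add, hu, hu, hu, psi_add, map_add])
      map_smul' := fun a x => psi_injective J h N (by
        rw [RingHom.id_apply, psi_smul, hu, hu, psi_smul, map_smul]) }
  refine ⟨ModuleCat.ofHom uL, ?_⟩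
  refine eq_completion_of_gens (FSch.idealSpec A J) h (TM M) (G := TM N)
    (fun hU => ideal_fg J hJ hU) _ Φ (isAffineOpen_top _) rfl (secTop M) ?_ fun x => ?_
  · rw [(secTop_bijective M).2.range_eq, Submodule.span_univ]
  · exact (hu x).symm.trans (cplMap_psi J h (ModuleCat.ofHom uL : M ⟶ N) x).symm

theorem bijective_realModMap_complModMap (hJ : J.FG) (M N : ModuleCat.{u} A) [IsAdicComplete J N] :
    Function.Bijective (fun u : M ⟶ N =>
      FSch.ModSys.realModMap h (FSch.complModMap (FSch.idealSpec A J) (tmap u))) := by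
  refine ⟨fun u v e => ?_, fun Φ => exists_preimage J h hJ M N Φ⟩
  refine ModuleCat.hom_ext (LinearMap.ext fun x => psi_injective J h N ?_)
  rw [← cplMap_psi, ← cplMap_psi]
  haveI := isQCoh_TM M
  haveI := isQCoh_TM N
  exact cplMap_of_eq (FSch.idealSpec A J) h (TM M) (G := TM N) e _ _

end Groth.Agent.TopFTCpl12
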